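import Mathlib

/-!
# Arithmetic for U5 and U6

A field automorphism of odd prime order `p` fixes no root of unity of the full `p`-power order dividing
`q + 1`; a semidirect relation in a cyclic `p`-group can be solved.
-/

set_option autoImplicit false

namespace Cfsg.Agent.Involutions.RankOne.U3.Idx

open Finset

/-- No automorphism of order `p` fixes an element whose order is the `p`-part of `q + 1`. -/
theorem no_fixed_root {F : Type*} [Field F] [Fintype F] [CharP F 2] {n p a : ℕ}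
    (hF : Fintype.card F = (2 ^ n) ^ 2) (hp : p.Prime) (hp2 : p ≠ 2) {σ : RingAut F}
    (hσp : σ ^ p = 1) (hσ : σ ≠ 1) {δ : F} (hδ : orderOf δ = p ^ a) (ha : a ≠ 0)
    (hdvd : p ^ a ∣ 2 ^ n + 1) (hndvd : ¬ p ^ (a + 1) ∣ 2 ^ n + 1) (hfix : σ δ = δ) : False := by
  classical
  haveI : Fact p.Prime := ⟨hp⟩
  set Γ := Subgroup.zpowers σ with hΓ
  haveI : Finite (RingAut F) := Finite.of_injective (fun τ : RingAut F => (τ : F → F)) DFunLike.coe_injective
  haveI : Fintype Γ := Fintype.ofFinite Γ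
  set k := FixedPoints.subfield Γ F with hk
  haveI : Fintype k := Fintype.ofFinite k
  have hcard : Fintype.card Γ = p := by
    rw [← Nat.card_eq_fintype_card, hΓ, Nat.card_zpowers, orderOf_eq_prime hσp hσ]
  have hrank : Module.finrank k F = p := (FixedPoints.finrank_eq_card Γ F).trans hcard
  haveI : CharP k 2 := inferInstance
  obtain ⟨f, -, hf⟩ := FiniteField.card k 2
  have hFk : (2 ^ n) ^ 2 = Fintype.card k ^ p := by
    rw [← hF, Module.card_eq_pow_finrank (K := k) (V := F), hrank]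
  rw [hf, ← pow_mul, ← pow_mul] at hFk
  have hnf := Nat.pow_right_injective le_rfl hFk
  have hodd : Odd p := hp.odd_of_ne_two hp2
  have hfe : Even (f : ℕ) := by
    have : Even ((f : ℕ) * p) := ⟨n, by omega⟩
    exact (Nat.even_mul.1 this).resolve_right (Nat.not_even_iff_odd.2 hodd)
  obtain ⟨n₀, hn₀⟩ := hfe
  have hn : n = n₀ * p := by
    have : n * 2 = (n₀ * p) * 2 := by rw [hnf, hn₀]; ring
    omega
  -- `δ` lies in the fixed field
  have hmem : δ ∈ k := by
    intro g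
    have hle : Γ ≤ MulAction.stabilizer (RingAut F) δ := (Subgroup.zpowers_le).2 hfix
    exact hle g.2
  have hδ0 : δ ≠ 0 := fun e => by
    rw [e, orderOf_zero] at hδ
    exact absurd hδ.symm (pow_ne_zero _ hp.ne_zero)
  have hpow : δ ^ (Fintype.card k - 1) = 1 := by
    have := FiniteField.pow_card_sub_one_eq_one (⟨δ, hmem⟩ : k) fun e => hδ0 (congrArg Subtype.val e)
    exact congrArg Subtype.val this
  have hd1 : p ^ a ∣ 2 ^ (f : ℕ) - 1 := by
    rw [← hf, ← hδ]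
    exact orderOf_dvd_of_pow_eq_one hpow
  set u : ℤ := 2 ^ n₀ with hu
  have hd2 : (p : ℤ) ^ a ∣ (u - 1) * (u + 1) := by
    have h1 : ((p ^ a : ℕ) : ℤ) ∣ ((2 ^ (f : ℕ) - 1 : ℕ) : ℤ) := Int.natCast_dvd_natCast.2 hd1
    rw [Nat.cast_sub Nat.one_le_two_pow] at h1
    push_cast at h1
    have : (u - 1) * (u + 1) = 2 ^ (f : ℕ) - 1 := by rw [hn₀, hu, pow_add]; ring
    rwa [this]
  have hq : (2 : ℤ) ^ n = u ^ p := by rw [hu, hn, pow_mul]
  have hpI : Prime (p : ℤ) := Nat.prime_iff_prime_int.1 hp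
  have hpq : (p : ℤ) ∣ u ^ p + 1 := by
    rw [← hq]
    have h1 : ((p : ℕ) : ℤ) ∣ ((2 ^ n + 1 : ℕ) : ℤ) :=
      Int.natCast_dvd_natCast.2 ((dvd_pow_self p ha).trans hdvd)
    push_cast at h1
    exact h1
  have hnot : ¬ (p : ℤ) ∣ u - 1 := by
    intro h
    have h1 : (p : ℤ) ∣ u ^ p - 1 := by
      have := sub_dvd_pow_sub_pow u 1 p
      rw [one_pow] at this
      exact h.trans this
    have h2 : (p : ℤ) ∣ 2 := by
      have := dvd_sub hpq h1
      rwa [show u ^ p + 1 - (u ^ p - 1) = 2 by ring] at this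
    have : p ∣ 2 := Int.natCast_dvd_natCast.1 h2
    exact hp2 ((Nat.prime_dvd_prime_iff_eq hp Nat.prime_two).1 this)
  have hd3 : (p : ℤ) ^ a ∣ u + 1 :=
    (((Prime.coprime_iff_not_dvd hpI).2 hnot).pow_left).dvd_of_dvd_mul_left hd2
  set S : ℤ := ∑ i ∈ range p, (-u) ^ i with hS
  have hprod : u ^ p + 1 = (u + 1) * S := by
    have := geom_sum_mul (-u) p
    rw [hodd.neg_pow, ← hS] at this
    linear_combination this
  have hpu : (p : ℤ) ∣ -u - 1 := by
    have := (dvd_pow_self (p : ℤ) ha).trans hd3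
    rw [show -u - 1 = -(u + 1) by ring]
    exact this.neg_right
  have hpS : (p : ℤ) ∣ S := by
    have h1 : (p : ℤ) ∣ ∑ i ∈ range p, ((-u) ^ i - 1) := Finset.dvd_sum fun i _ => by
      have := sub_dvd_pow_sub_pow (-u) 1 i
      rw [one_pow] at this
      exact hpu.trans this
    rw [Finset.sum_sub_distrib, ← hS] at h1
    simp only [Finset.sum_const, Finset.card_range, nsmul_eq_mul, mul_one] at h1
    simpa using dvd_add h1 (dvd_refl (p : ℤ))
  refine hndvd (Int.natCast_dvd_natCast.1 ?_)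
  push_cast
  rw [hq, hprod, pow_succ]
  exact mul_dvd_mul hd3 hpS

/-- Solving in a cyclic group of order `p ^ a` for an automorphism of order `p`. -/
theorem exists_solution {p a : ℕ} (hp : p.Prime) (hp2 : p ≠ 2) {s j : ℤ}
    (hs : (p : ℤ) ^ a ∣ s ^ p - 1) (hs1 : ¬ (p : ℤ) ^ a ∣ s - 1)
    (hj : (p : ℤ) ^ a ∣ j * ∑ i ∈ range p, s ^ i) :
    ∃ k : ℤ, (p : ℤ) ^ a ∣ (s - 1) * k + j := by
  haveI : Fact p.Prime := ⟨hp⟩
  rcases Nat.eq_zero_or_pos a with rfl | ha
  · exact ⟨0, by simp⟩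
  obtain ⟨a, rfl⟩ := Nat.exists_eq_succ_of_ne_zero ha.ne'
  have hps : (p : ℤ) ∣ s - 1 := by
    have h1 : (p : ℤ) ∣ s ^ p - 1 := (dvd_pow_self (p : ℤ) (Nat.succ_ne_zero a)).trans hs
    rw [← ZMod.intCast_zmod_eq_zero_iff_dvd] at h1 ⊢
    push_cast at h1 ⊢
    rwa [ZMod.pow_card] at h1
  obtain ⟨c, hc⟩ := hps
  have hdev : ∀ i : ℕ, (p : ℤ) ^ 2 ∣ s ^ i - (1 + i * (c * p)) := by
    intro i
    induction i with
    | zero => simp
    | succ i ih =>
      obtain ⟨r, hr⟩ := ih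
      refine ⟨r * s + i * c ^ 2, ?_⟩
      have hs' : s = p * c + 1 := eq_add_of_sub_eq hc
      rw [pow_succ, show s ^ i = p ^ 2 * r + (1 + i * (c * p)) from eq_add_of_sub_eq hr]
      conv_lhs => rw [hs']
      conv_rhs => rw [hs']
      push_cast
      ring
  set S : ℤ := ∑ i ∈ range p, s ^ i with hS
  obtain ⟨r, hr⟩ : (p : ℤ) ^ 2 ∣ S - p := by
    have h1 : (p : ℤ) ^ 2 ∣ ∑ i ∈ range p, (s ^ i - (1 + i * (c * p))) :=
      Finset.dvd_sum fun i _ => hdev i
    rw [Finset.sum_sub_distrib, Finset.sum_add_distrib, ← Finset.sum_mul, ← hS] at h1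
    obtain ⟨m, hm⟩ := hp.odd_of_ne_two hp2
    have h2 : (∑ i ∈ range p, (i : ℤ)) = p * m := by
      have := Finset.sum_range_id_mul_two p
      have h3 : ((∑ i ∈ range p, i : ℕ) : ℤ) * 2 = (p : ℤ) * ((p - 1 : ℕ) : ℤ) := by exact_mod_cast this
      rw [show p - 1 = 2 * m by omega] at h3
      push_cast at h3
      linarith
    rw [h2] at h1
    simp only [Finset.sum_const, Finset.card_range, nsmul_eq_mul, mul_one] at h1
    have h4 : (p : ℤ) ^ 2 ∣ (p : ℤ) * m * (c * p) := ⟨m * c, by ring⟩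
    simpa [sub_sub, sub_add_cancel] using (by
      have := dvd_add h1 h4
      rwa [show S - ((p : ℤ) + p * m * (c * p)) + p * m * (c * p) = S - p by ring] at this :
      (p : ℤ) ^ 2 ∣ S - p)
  have hSp : S = p * (1 + p * r) := by linear_combination hr
  have hcop : IsCoprime ((p : ℤ) ^ (a + 1)) (1 + p * r) :=
    IsCoprime.pow_left ⟨-r, 1, by ring⟩
  have hp0 : (p : ℤ) ≠ 0 := by exact_mod_cast hp.ne_zero
  have cancel : ∀ x : ℤ, (p : ℤ) ^ (a + 1) ∣ x * S → (p : ℤ) ^ a ∣ x := fun x hx => by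
    rw [hSp, ← mul_assoc] at hx
    have := hcop.dvd_of_dvd_mul_right hx
    rw [pow_succ] at this
    exact (mul_dvd_mul_iff_right hp0).1 this
  obtain ⟨v, hv⟩ := cancel (s - 1) (by
    rw [hS, mul_comm, geom_sum_mul]; exact hs)
  obtain ⟨j', rfl⟩ := cancel j hj
  have hvp : ¬ (p : ℤ) ∣ v := fun ⟨w, hw⟩ => hs1 ⟨w, by rw [hv, hw, pow_succ]; ring⟩
  obtain ⟨x, y, hxy⟩ := ((Prime.coprime_iff_not_dvd (Nat.prime_iff_prime_int.1 hp)).2 hvp).symm
  refine ⟨-(j' * x), j' * y, ?_⟩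
  rw [hv, pow_succ]
  linear_combination -((p : ℤ) ^ a * j') * hxy

end Cfsg.Agent.Involutions.RankOne.U3.Idx
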