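import Cfsg.Agent.Lib.Involutions.RankOne.U3.Local.Regular
import Cfsg.Agent.Lib.Involutions.RankOne.U3.Local.Semilinear

/-!
# The stabiliser of the block

It is `L₀ V` with `V = C_D(t)`; `V` acts on `L₀` by field automorphisms; two points of the block determine it.
-/

set_option autoImplicit false
set_option linter.unusedSectionVars false
set_option linter.style.haveILetI false

namespace Cfsg.Agent.Involutions.RankOne.U3.Idx

open MulAction Involutions.Basic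
open scoped Pointwise

variable {G Ω : Type*} [Group G] [Finite G] [MulAction G Ω] [FaithfulSMul G Ω] {a : Ω} {t : G}
  {Q : Subgroup G} {n : ℕ} {F : Type*} [Field F] [Fintype F] [CharP F 2]

local notation "D" => (MulAction.stabilizer G a ⊓ MulAction.stabilizer G (t • a))

/-- The stabiliser of the block. -/
def Nb (a : Ω) (t : G) (Q : Subgroup G) : Subgroup G := MulAction.stabilizer G (blockB a t Q)

omit [Finite G] [FaithfulSMul G Ω] in
theorem smul_mem_B {g : G} (hg : g ∈ Nb a t Q) {c : Ω} (hc : c ∈ blockB a t Q) :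
    g • c ∈ blockB a t Q := by
  have e : g • blockB a t Q = blockB a t Q := hg
  rw [← e]
  exact Set.smul_mem_smul_set hc

omit [Finite G] [FaithfulSMul G Ω] in
theorem mem_Nb {g : G} (hg : ∀ c : Ω, g • c ∈ blockB a t Q ↔ c ∈ blockB a t Q) : g ∈ Nb a t Q := by
  show g • blockB a t Q = blockB a t Q
  ext c
  rw [Set.mem_smul_set_iff_inv_smul_mem, ← hg, smul_inv_smul]

omit [Finite G] [FaithfulSMul G Ω] in
theorem a_mem_B : a ∈ blockB a t Q := Or.inl rfl

omit [Finite G] [FaithfulSMul G Ω] in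
theorem b_mem_B : t • a ∈ blockB a t Q := Or.inr ⟨1, one_mem _, one_smul _ _⟩

variable (h : Setting G Ω a t Q n) (fr : Frame a t Q n F) (hW : W a t ≠ ⊥)
include h hW

theorem L0_le_Nb : L0 a t Q ≤ Nb a t Q := fun _ hx => mem_Nb fun _ => block_iff h hW hx

theorem exists_W : ∃ w ∈ W a t, w ≠ 1 := by
  obtain ⟨⟨w, hw⟩, hw1⟩ := Subgroup.ne_bot_iff_exists_ne_one.1 hW
  exact ⟨w, hw, fun e => hw1 (Subtype.ext e)⟩

theorem D_le_Nb : D ≤ Nb a t Q := fun d hd => mem_Nb fun c => by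
  obtain ⟨w, hw, hw1⟩ := exists_W h hW
  have hw' : d⁻¹ * w * d ∈ W a t := by simpa using conj_mem_W h (inv_mem hd) hw
  have hw1' : d⁻¹ * w * d ≠ 1 := fun e => hw1 (by
    calc w = d * (d⁻¹ * w * d) * d⁻¹ := by group
      _ = 1 := by rw [e]; group)
  rw [← fixed_iff h hw hw1, ← fixed_iff h hw' hw1', mul_smul, mul_smul, inv_smul_eq_iff]

include fr

/-- `L₀` moves two points of the block to `a`, `b`. -/
theorem exists_pair_move {c c' : Ω} (hc : c ∈ blockB a t Q) (hc' : c' ∈ blockB a t Q) (hne : c ≠ c') :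
    ∃ x ∈ L0 a t Q, x • c = a ∧ x • c' = t • a := by
  obtain ⟨g, hg, hga⟩ : ∃ g ∈ L0 a t Q, g • c = a := by
    rcases (mem_block_iff h fr).1 hc with rfl | ⟨z, hz, rfl⟩
    · exact ⟨1, one_mem _, one_smul _ _⟩
    · refine ⟨t * fr.ζ z, mul_mem t_mem_L0 (ζ_mem_L0 h fr hz), ?_⟩
      rw [mul_smul, smul_smul (fr.ζ z), ζ_mul_self h fr hz, one_smul, t_smul_b h.setup]
  have hne' : g • c' ≠ a := fun e => hne (smul_left_cancel g (hga.trans e.symm))
  rcases (mem_block_iff h fr).1 ((block_iff h hW hg).2 hc') with e | ⟨z, hz, e⟩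
  · exact absurd e hne'
  · refine ⟨fr.ζ z * g, mul_mem (ζ_mem_L0 h fr hz) hg, ?_, ?_⟩
    · rw [mul_smul, hga]
      exact h.setup.le (Zc_le (fr.coords.ζ_mem z hz))
    · rw [mul_smul, ← e, smul_smul, ζ_mul_self h fr hz, one_smul]

/-- Two points of the block determine it. -/
theorem mem_Nb_of_two {g : G} {c c' : Ω} (hne : c ≠ c') (hc : c ∈ blockB a t Q)
    (hc' : c' ∈ blockB a t Q) (hgc : g • c ∈ blockB a t Q) (hgc' : g • c' ∈ blockB a t Q) :
    g ∈ Nb a t Q := by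
  obtain ⟨x, hx, hxa, hxb⟩ := exists_pair_move h fr hW hc hc' hne
  obtain ⟨y, hy, hya, hyb⟩ := exists_pair_move h fr hW hgc hgc'
    (fun e => hne (smul_left_cancel g e))
  have hd : y * g * x⁻¹ ∈ D := by
    refine ⟨?_, ?_⟩
    · show (y * g * x⁻¹) • a = a
      nth_rewrite 1 [← hxa]
      rw [mul_smul, mul_smul, inv_smul_smul, hya]
    · show (y * g * x⁻¹) • (t • a) = t • a
      nth_rewrite 1 [← hxb]
      rw [mul_smul, mul_smul, inv_smul_smul, hyb]
  have e : g = y⁻¹ * (y * g * x⁻¹) * x := by group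
  rw [e]
  exact mul_mem (mul_mem (inv_mem (L0_le_Nb h hW hy)) (D_le_Nb h hW hd)) (L0_le_Nb h hW hx)

theorem decomp {g : G} (hg : g ∈ Nb a t Q) :
    ∃ x ∈ L0 a t Q, ∃ v ∈ D, t * v = v * t ∧ g = x * v := by
  obtain ⟨y, hy, hya, hyb⟩ := exists_pair_move h fr hW (smul_mem_B hg a_mem_B)
    (smul_mem_B hg b_mem_B) (fun e => b_ne h.setup (smul_left_cancel g e).symm)
  have hd : y * g ∈ D := by
    refine ⟨?_, ?_⟩
    · show (y * g) • a = a
      rw [mul_smul, hya]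
    · show (y * g) • (t • a) = t • a
      rw [mul_smul, hyb]
  obtain ⟨v, k, hv, hvt, hk, e⟩ := exists_V_mul_K h hd
  refine ⟨y⁻¹ * (v * k * v⁻¹), mul_mem (inv_mem hy) (mem_L0_of_Kc (conj_mem_Kc h hv hk)), v, hv,
    hvt, ?_⟩
  calc g = y⁻¹ * (y * g) := by group
    _ = _ := by rw [e]; group

omit fr hW in
theorem conj_V {v : G} (hv : v ∈ D) (hvt : t * v = v * t) {x : G} (hx : x ∈ L0 a t Q) :
    v * x * v⁻¹ ∈ L0 a t Q := by
  induction hx using Subgroup.closure_induction with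
  | one => simp
  | mul x y _ _ hx hy =>
    rw [show v * (x * y) * v⁻¹ = (v * x * v⁻¹) * (v * y * v⁻¹) by group]
    exact mul_mem hx hy
  | inv x _ hx =>
    rw [show v * x⁻¹ * v⁻¹ = (v * x * v⁻¹)⁻¹ by group]
    exact inv_mem hx
  | mem x hx =>
    rcases hx with (hx | hx) | hx
    · exact mem_L0_of_Zc (conj_mem_Zc h (Subgroup.mem_inf.1 hv).1 hx)
    · exact mem_L0_of_Kc (conj_mem_Kc h hv hx)
    · rw [Set.mem_singleton_iff.1 hx, ← hvt, mul_inv_cancel_right]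
      exact t_mem_L0

theorem conj_L0 {g : G} (hg : g ∈ Nb a t Q) {x : G} (hx : x ∈ L0 a t Q) :
    g * x * g⁻¹ ∈ L0 a t Q := by
  obtain ⟨y, hy, v, hv, hvt, rfl⟩ := decomp h fr hW hg
  rw [show y * v * x * (y * v)⁻¹ = y * (v * x * v⁻¹) * y⁻¹ by group]
  exact mul_mem (mul_mem hy (conj_V h hv hvt hx)) (inv_mem hy)

omit hW in
theorem eq_one_of_L0_V {x : G} (hx : x ∈ L0 a t Q) (hxD : x ∈ D) (hxt : t * x = x * t) : x = 1 := by
  obtain ⟨z, e, hz, he, he0, rfl⟩ := form_of_fix h fr hx (Subgroup.mem_inf.1 hxD).1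
  have hk := fr.coords.κ_mem e he0 he
  have hzD : fr.ζ z ∈ D := by
    have := mul_mem hxD (inv_mem (Kc_le h hk))
    rwa [mul_inv_cancel_right] at this
  rw [inf_D h.setup (Zc_le (fr.coords.ζ_mem z hz)) hzD, one_mul] at hxt ⊢
  refine InvertedSet.eq_one_of_mul_self h.setup.odd_card (Kc_le h hk) ?_
  have h1 := Kc_t h hk
  rw [hxt, mul_assoc, h.setup.mul_self, mul_one] at h1
  nth_rewrite 1 [h1]
  exact inv_mul_cancel _

omit hW in
theorem eq_one_of_L0_W {x : G} (hx : x ∈ L0 a t Q) (hxW : x ∈ W a t) : x = 1 :=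
  eq_one_of_L0_V h fr hx (W_le hxW) (W_t hxW)

omit hW in
theorem decomp_unique {x x' v v' : G} (hx : x ∈ L0 a t Q) (hx' : x' ∈ L0 a t Q) (hv : v ∈ D)
    (hvt : t * v = v * t) (hv' : v' ∈ D) (hvt' : t * v' = v' * t) (e : x * v = x' * v') :
    x = x' ∧ v = v' := by
  have h1 : x'⁻¹ * x = v' * v⁻¹ := by
    rw [eq_mul_inv_iff_mul_eq, mul_assoc, e, inv_mul_cancel_left]
  have hc : Commute t (v' * v⁻¹) :=
    (show Commute t v' from hvt').mul_right (show Commute t v from hvt).inv_right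
  have h2 : x'⁻¹ * x = 1 := eq_one_of_L0_V h fr (mul_mem (inv_mem hx') hx)
    (h1 ▸ mul_mem hv' (inv_mem hv)) (h1 ▸ hc.eq)
  refine ⟨(inv_mul_eq_one.1 h2).symm, ?_⟩
  rw [h1, mul_inv_eq_one] at h2
  exact h2.symm

omit fr hW in
theorem pow_decomp {x v : G} (hx : x ∈ L0 a t Q) (hv : v ∈ D) (hvt : t * v = v * t) :
    ∀ k : ℕ, ∃ x' ∈ L0 a t Q, (x * v) ^ k = x' * v ^ k := by
  intro k
  induction k with
  | zero => exact ⟨1, one_mem _, by simp⟩
  | succ k ih =>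
    obtain ⟨x', hx', e⟩ := ih
    refine ⟨x' * (v ^ k * x * (v ^ k)⁻¹), mul_mem hx' (conj_V h (pow_mem hv k)
      ((show Commute t v from hvt).pow_right k).eq hx), ?_⟩
    rw [pow_succ, e, pow_succ]; group

theorem card_Nb :
    Nat.card (Nb a t Q) = Nat.card (L0 a t Q) * Nat.card ↥(D ⊓ Subgroup.centralizer ({t} : Set G)) := by
  rw [← Nat.card_prod]
  refine (Nat.card_eq_of_bijective (fun p : L0 a t Q × ↥(D ⊓ Subgroup.centralizer ({t} : Set G)) =>
    (⟨p.1 * p.2, mul_mem (L0_le_Nb h hW p.1.2) (D_le_Nb h hW (Subgroup.mem_inf.1 p.2.2).1)⟩ :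
      Nb a t Q)) ⟨?_, ?_⟩).symm
  · rintro ⟨x, v⟩ ⟨x', v'⟩ e
    obtain ⟨e1, e2⟩ := decomp_unique h fr x.2 x'.2 (Subgroup.mem_inf.1 v.2).1
      (Subgroup.mem_centralizer_singleton_iff.1 (Subgroup.mem_inf.1 v.2).2).symm
      (Subgroup.mem_inf.1 v'.2).1
      (Subgroup.mem_centralizer_singleton_iff.1 (Subgroup.mem_inf.1 v'.2).2).symm
      (congrArg Subtype.val e)
    exact Prod.ext (Subtype.ext e1) (Subtype.ext e2)
  · rintro ⟨g, hg⟩
    obtain ⟨x, hx, v, hv, hvt, rfl⟩ := decomp h fr hW hg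
    exact ⟨(⟨x, hx⟩, ⟨v, Subgroup.mem_inf.2 ⟨hv,
      Subgroup.mem_centralizer_singleton_iff.2 hvt.symm⟩⟩), rfl⟩

/-- The number of blocks. -/
theorem index_Nb : (Nb a t Q).index * (2 ^ n + 1) = (2 ^ n) ^ 2 * ((2 ^ n) ^ 3 + 1) := by
  have hc := (Nb a t Q).card_mul_index
  rw [card_Nb h fr hW, card_L0 h fr hW, card_group h.setup, h.card_Q,
    InvertedSet.card_eq h.setup.odd_card h.setup.mul_self (fun x hx => t_normalizes_D h hx),
    show Nat.card (Cfsg.invertedBy D t) = 2 ^ n - 1 by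
      rw [← card_Kc h]
      exact (Nat.card_congr (Equiv.subtypeEquivRight fun _ => mem_Kc h)).symm] at hc
  have h2 : 2 ≤ 2 ^ n := Nat.le_self_pow (by linarith [h.two_le]) 2
  have hpos : 0 < 2 ^ n * ((2 ^ n - 1) * Nat.card ↥(D ⊓ Subgroup.centralizer ({t} : Set G))) :=
    Nat.mul_pos (by positivity) (Nat.mul_pos (by omega) Nat.card_pos)
  refine Nat.eq_of_mul_eq_mul_left hpos ?_
  linear_combination hc

/-- `V` acts on `L₀` by field automorphisms. -/
theorem exists_semilinear {v : G} (hv : v ∈ D) (hvt : t * v = v * t) :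
    ∃ σ : RingAut F, Odd (orderOf σ) ∧ σ ^ orderOf v = 1 ∧ (σ = 1 → v ∈ W a t) ∧
      ∀ (x : G) (hx : x ∈ L0 a t Q) (i j : Fin 2),
        fr.rep ⟨v * x * v⁻¹, conj_V h hv hvt hx⟩ i j = σ (fr.rep ⟨x, hx⟩ i j) := by
  classical
  obtain ⟨σ, μ, ho, hσ, -, -, hsl, hμt⟩ := semilinear' h fr hv
  have hμ : μ = 1 := hμt hvt
  subst hμ
  simp only [one_mul] at hsl
  refine ⟨σ, ho, hσ, fun e => ?_, ?_⟩
  · refine (mem_W_iff h).2 ⟨hv, fun z hz => ?_⟩
    obtain ⟨w, hw, rfl⟩ := fr.coords.ζ_surj z hz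
    have h1 := hsl w hw
    rw [e, RingAut.one_apply] at h1
    exact (mul_inv_eq_iff_eq_mul.1 h1).symm
  have hfix : ∀ z : F, z ^ (2 ^ n) = z → σ z ^ (2 ^ n) = σ z := fun z hz => by rw [← map_pow, hz]
  have hκ : ∀ e : F, e ≠ 0 → e ^ (2 ^ n) = e → v * fr.κ e * v⁻¹ = fr.κ (σ e) := by
    intro e he0 he
    obtain ⟨c, hc0, hc, ec⟩ := fr.coords.κ_surj _ (conj_mem_Kc h hv (fr.coords.κ_mem e he0 he))
    have h1 := fr.coords.conj e 1 he0 he (one_pow _)
    have h2 := fr.coords.conj c 1 hc0 hc (one_pow _)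
    have hv1 : v * fr.ζ 1 * v⁻¹ = fr.ζ 1 := by rw [hsl 1 (one_pow _), map_one]
    have h3 : fr.ζ (c ^ 2 * 1) = fr.ζ (σ (e ^ 2 * 1)) := by
      rw [← h2, ← hsl _ (mul_fixed (sq_fixed_of he) (one_pow _)), ← h1, ec]
      nth_rewrite 1 [← hv1]
      group
    have h4 := fr.coords.ζ_inj _ _ (mul_fixed (sq_fixed_of hc) (one_pow _))
      (hfix _ (mul_fixed (sq_fixed_of he) (one_pow _))) h3
    rw [mul_one, mul_one, map_pow] at h4
    have h5 : (c + σ e) ^ 2 = 0 := by rw [CharTwo.add_sq, h4, CharTwo.add_self_eq_zero]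
    rw [← ec, CharTwo.add_eq_zero.1 ((pow_eq_zero_iff two_ne_zero).1 h5)]
  let c : L0 a t Q →* L0 a t Q :=
    { toFun := fun x => ⟨v * x * v⁻¹, conj_V h hv hvt x.2⟩
      map_one' := Subtype.ext (by simp)
      map_mul' := fun x y => Subtype.ext (by simp [mul_assoc]) }
  let s : Matrix.SpecialLinearGroup (Fin 2) F →* Matrix.SpecialLinearGroup (Fin 2) F :=
    Matrix.SpecialLinearGroup.map (σ : F ≃+* F).toRingHom
  have key : ∀ (x : G) (hx : x ∈ L0 a t Q), fr.rep (c ⟨x, hx⟩) = s (fr.rep ⟨x, hx⟩) := by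
    intro x hx
    induction hx using Subgroup.closure_induction with
    | one =>
      have h1 : (⟨1, (L0 a t Q).one_mem⟩ : L0 a t Q) = 1 := rfl
      show fr.rep (c 1) = s (fr.rep 1)
      simp
    | mul x y hx hy ihx ihy =>
      show fr.rep (c (⟨x, hx⟩ * ⟨y, hy⟩)) = s (fr.rep (⟨x, hx⟩ * ⟨y, hy⟩))
      simp only [map_mul, ihx, ihy]
    | inv x hx ih =>
      show fr.rep (c (⟨x, hx⟩ : L0 a t Q)⁻¹) = s (fr.rep (⟨x, hx⟩ : L0 a t Q)⁻¹)
      simp only [map_inv, ih]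
    | mem x hx =>
      suffices hc : ∀ hx' : x ∈ L0 a t Q, fr.rep (c ⟨x, hx'⟩) = s (fr.rep ⟨x, hx'⟩) from hc _
      rcases hx with (hx | hx) | hx
      · obtain ⟨z, hz, rfl⟩ := fr.coords.ζ_surj x hx
        intro hx'
        refine ((rep_eq h fr (ζ_mem_L0 h fr (hfix z hz)) (x := c ⟨_, hx'⟩) (hsl z hz)).trans
          (fr.rep_ζ _ (hfix z hz) _)).trans
          (Eq.trans ?_ (congrArg s (fr.rep_ζ z hz hx')).symm)
        refine sl_ext (Matrix.ext fun i j => ?_)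
        fin_cases i <;> fin_cases j <;> simp [s, mZ_val]
      · obtain ⟨e, he0, he, rfl⟩ := fr.coords.κ_surj x hx
        have he0' : σ e ≠ 0 := (map_ne_zero_iff σ σ.injective).2 he0
        intro hx'
        refine ((rep_eq h fr (κ_mem_L0 h fr he0' (hfix e he)) (x := c ⟨_, hx'⟩) (hκ e he0 he)).trans
          (fr.rep_κ _ he0' (hfix e he) _)).trans
          (Eq.trans ?_ (congrArg s (fr.rep_κ e he0 he hx')).symm)
        refine sl_ext (Matrix.ext fun i j => ?_)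
        fin_cases i <;> fin_cases j <;> simp [s, mK_val he0, mK_val he0']
      · intro hx'
        have ex : x = t := Set.mem_singleton_iff.1 hx
        refine ((rep_eq h fr t_mem_L0 (x := c ⟨x, hx'⟩) (show v * x * v⁻¹ = t by
          rw [ex, ← hvt, mul_inv_cancel_right])).trans (fr.rep_t _)).trans
          (Eq.trans ?_ (congrArg s ((rep_eq h fr t_mem_L0 (x := ⟨x, hx'⟩) ex).trans (fr.rep_t _))).symm)
        refine sl_ext (Matrix.ext fun i j => ?_)
        fin_cases i <;> fin_cases j <;> simp [s, mT_val]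
  intro x hx i j
  exact congrArg (fun M : Matrix.SpecialLinearGroup (Fin 2) F => M i j) (key x hx)

end Cfsg.Agent.Involutions.RankOne.U3.Idx
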