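import Cfsg.Agent.Lib.Involutions.RankOne.U3.Interface2
import Cfsg.Agent.Lib.Involutions.RankOne.U3.Index.Arith
import Cfsg.Agent.Lib.Involutions.RankOne.U3.Index.Normalizer

/-!
# Elements of prime order of the block stabiliser

A fixed-point-free element of order `p` of the stabiliser of the block lies in `L₀ W`.
-/

set_option autoImplicit false
set_option linter.unusedSectionVars false
set_option linter.style.haveILetI false

namespace Cfsg.Agent.Involutions.RankOne.U3.Idx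

open MulAction Involutions.Basic
open scoped Pointwise

variable {G Ω : Type*} [Group G] [Finite G] [MulAction G Ω] [FaithfulSMul G Ω] {a : Ω} {t : G}
  {Q : Subgroup G} {n : ℕ} {F : Type*} [Field F] [Fintype F] [CharP F 2]

local notation "D" => (MulAction.stabilizer G a ⊓ MulAction.stabilizer G (t • a))

/-- `τ` generates the `p`-part of the torus, `p ^ e` is the `p`-part of `q + 1`. -/
structure Part (fr : Frame a t Q n F) (ρ : F) (p e : ℕ) (τ : G) : Prop where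
  prime : p.Prime
  ne_two : p ≠ 2
  pos : e ≠ 0
  dvd : p ^ e ∣ 2 ^ n + 1
  not_dvd : ¬ p ^ (e + 1) ∣ 2 ^ n + 1
  mem : τ ∈ fr.torusG ρ
  order : orderOf τ = p ^ e

variable {h : Setting G Ω a t Q n} {fr : Frame a t Q n F} {hW : W a t ≠ ⊥} {ρ : F} {p e : ℕ} {τ : G}

theorem Part.dvd_q1 (P : Part fr ρ p e τ) : p ∣ 2 ^ n + 1 := (dvd_pow_self p P.pos).trans P.dvd

theorem Part.not_dvd_q (P : Part fr ρ p e τ) : ¬ p ∣ 2 ^ n := fun hd =>
  P.ne_two ((Nat.prime_dvd_prime_iff_eq P.prime Nat.prime_two).1 (P.prime.dvd_of_dvd_pow hd))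

theorem Part.not_dvd_qm1 (P : Part fr ρ p e τ) : ¬ p ∣ 2 ^ n - 1 := fun hd => by
  have h2 := Nat.dvd_sub P.dvd_q1 hd
  have h1 := Nat.one_le_two_pow (n := n)
  rw [show 2 ^ n + 1 - (2 ^ n - 1) = 2 by omega] at h2
  exact P.ne_two ((Nat.prime_dvd_prime_iff_eq P.prime Nat.prime_two).1 h2)

theorem Part.isPGroup (P : Part fr ρ p e τ) : IsPGroup p (Subgroup.zpowers τ) :=
  IsPGroup.of_card (by rw [Nat.card_zpowers, P.order])

theorem Part.mem_torus (P : Part fr ρ p e τ) {x : G} (hx : x ∈ Subgroup.zpowers τ) : x ∈ fr.torusG ρ :=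
  Subgroup.zpowers_le.2 P.mem hx

theorem Part.mem_L0 (P : Part fr ρ p e τ) {x : G} (hx : x ∈ Subgroup.zpowers τ) : x ∈ L0 a t Q :=
  torusG_le fr (P.mem_torus hx)

include h hW

theorem Part.factorization_L0 (P : Part fr ρ p e τ) : (Nat.card (L0 a t Q)).factorization p = e := by
  haveI : Fact p.Prime := ⟨P.prime⟩
  have hq : 0 < 2 ^ n := Nat.two_pow_pos n
  have hq1 : 2 ^ n - 1 ≠ 0 := by
    have : 2 ≤ 2 ^ n := Nat.le_self_pow (by linarith [h.two_le]) 2
    omega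
  rw [card_L0 h fr hW, Nat.factorization_mul (by omega) (Nat.mul_ne_zero hq.ne' hq1),
    Nat.factorization_mul hq.ne' hq1]
  simp only [Finsupp.coe_add, Pi.add_apply, Nat.factorization_eq_zero_of_not_dvd P.not_dvd_q,
    Nat.factorization_eq_zero_of_not_dvd P.not_dvd_qm1, add_zero]
  refine le_antisymm ?_ ((P.prime.pow_dvd_iff_le_factorization (by omega)).1 P.dvd)
  by_contra hlt
  exact P.not_dvd ((P.prime.pow_dvd_iff_le_factorization (by omega)).2 (by omega))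

theorem Part.card_le (P : Part fr ρ p e τ) {U : Subgroup G} (hU : U ≤ L0 a t Q) (hp : IsPGroup p U) :
    Nat.card U ∣ p ^ e := by
  haveI : Fact p.Prime := ⟨P.prime⟩
  obtain ⟨k, hk⟩ := IsPGroup.iff_card.1 hp
  rw [hk, Nat.pow_dvd_pow_iff_le_right P.prime.one_lt, ← P.factorization_L0 (h := h) (hW := hW)]
  exact (P.prime.pow_dvd_iff_le_factorization Nat.card_pos.ne').1 (hk ▸ Subgroup.card_dvd_of_le hU)

/-- A `p`-element of `L₀` commuting with `τ` is a power of it. -/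
theorem Part.mem_zpowers (P : Part fr ρ p e τ) {x : G} (hx : x ∈ L0 a t Q) (hc : Commute x τ) {r : ℕ}
    (hpow : x ^ (p ^ r) = 1) : x ∈ Subgroup.zpowers τ := by
  haveI : Fact p.Prime := ⟨P.prime⟩
  have hxp : IsPGroup p (Subgroup.zpowers x) := by
    obtain ⟨i, -, hi⟩ := (Nat.dvd_prime_pow P.prime).1 (orderOf_dvd_of_pow_eq_one hpow)
    exact IsPGroup.of_card (by rw [Nat.card_zpowers, hi])
  have hn : Subgroup.zpowers x ≤ Subgroup.normalizer (Subgroup.zpowers τ : Set G) := by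
    refine Subgroup.zpowers_le.2 (Subgroup.mem_normalizer_iff.2 fun y => ?_)
    constructor
    · rintro ⟨k, rfl⟩
      exact ⟨k, by rw [(hc.zpow_right k).eq, mul_inv_cancel_right]⟩
    · rintro ⟨k, hk⟩
      refine ⟨k, ?_⟩
      calc τ ^ k = x⁻¹ * (x * τ ^ k) := by group
        _ = x⁻¹ * (τ ^ k * x) := by rw [(hc.zpow_right k).eq]
        _ = y := by rw [show τ ^ k = x * y * x⁻¹ from hk]; group
  have hU := hxp.to_sup_of_normal_right' P.isPGroup hn
  have hle : Subgroup.zpowers x ⊔ Subgroup.zpowers τ ≤ L0 a t Q :=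
    sup_le (Subgroup.zpowers_le.2 hx) (fun _ hy => P.mem_L0 hy)
  have e1 := Subgroup.eq_of_le_of_card_ge (H := Subgroup.zpowers τ) le_sup_right (by
    rw [Nat.card_zpowers, P.order]
    exact Nat.le_of_dvd (pow_pos P.prime.pos e) (P.card_le (h := h) (hW := hW) hle hU))
  rw [e1]
  exact Subgroup.mem_sup_left (Subgroup.mem_zpowers x)

/-- A `p`-element of the stabiliser commuting with `τ` lies in `L₀ W`. -/
theorem Part.central_case (P : Part fr ρ p e τ) (loc : Local fr ρ) {g : G} (hg : g ∈ Nb a t Q) {r : ℕ}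
    (hgp : g ^ (p ^ r) = 1) (hc : Commute g τ) : ∃ x ∈ L0 a t Q, ∃ w ∈ W a t, g = x * w := by
  classical
  obtain ⟨x, hx, v, hv, hvt, rfl⟩ := decomp h fr hW hg
  refine ⟨x, hx, v, ?_, rfl⟩
  obtain ⟨σ, hodd, hσv, hσW, hσ⟩ := exists_semilinear h fr hW hv hvt
  refine hσW ?_
  -- the order of `v`
  have hvp : v ^ (p ^ r) = 1 := by
    obtain ⟨x', hx', e'⟩ := pow_decomp h hx hv hvt (p ^ r)
    refine (decomp_unique h fr hx' (one_mem _) (pow_mem hv _)
      ((show Commute t v from hvt).pow_right _).eq (one_mem _) (by simp) ?_).2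
    rw [← e', hgp, one_mul]
  have hσp : σ ^ (p ^ r) = 1 := orderOf_dvd_iff_pow_eq_one.1
    ((orderOf_dvd_of_pow_eq_one hσv).trans (orderOf_dvd_of_pow_eq_one hvp))
  -- the eigenvalue
  obtain ⟨χ, hχi, hχe, -⟩ := exists_char h fr loc.rho_ne
  set δ : F := (χ ⟨τ, P.mem⟩ : F) with hδ
  have hτL : τ ∈ L0 a t Q := torusG_le fr P.mem
  have he : Torus.Eig (fr.rep ⟨τ, hτL⟩) ρ δ := hχe ⟨τ, P.mem⟩
  have hord : orderOf δ = p ^ e := by
    rw [hδ, orderOf_units, orderOf_injective χ hχi, Subgroup.orderOf_mk, P.order]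
  have hd1 := Torus.eig_det he
  have hδ0 : δ ≠ 0 := left_ne_zero_of_mul_eq_one hd1
  set M := fr.rep ⟨τ, hτL⟩ with hM
  have htr : δ * δ + (M 0 0 + M 1 1) * δ + 1 = 0 := by
    linear_combination hd1 + δ * he.1 + (1 + δ * δ - δ * M 0 1 * ρ) * (CharTwo.two_eq_zero : (2 : F) = 0)
  -- `σ` fixes the trace
  have htrσ : σ (M 0 0 + M 1 1) = M 0 0 + M 1 1 := by
    set A := fr.rep ⟨x, hx⟩ with hA
    set B := fr.rep ⟨v * τ * v⁻¹, conj_V h hv hvt hτL⟩ with hB
    have eAB : A * B = M * A := by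
      rw [hA, hB, hM, ← map_mul, ← map_mul]
      refine congrArg fr.rep (Subtype.ext ?_)
      show x * (v * τ * v⁻¹) = τ * x
      calc x * (v * τ * v⁻¹) = (x * v * τ) * v⁻¹ := by group
        _ = (τ * (x * v)) * v⁻¹ := by rw [hc.eq]
        _ = τ * x := by group
    have hdA := Torus.det_eq A
    have q00 := congrArg (fun N : Matrix.SpecialLinearGroup (Fin 2) F => N 0 0) eAB
    have q01 := congrArg (fun N : Matrix.SpecialLinearGroup (Fin 2) F => N 0 1) eAB
    have q10 := congrArg (fun N : Matrix.SpecialLinearGroup (Fin 2) F => N 1 0) eAB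
    have q11 := congrArg (fun N : Matrix.SpecialLinearGroup (Fin 2) F => N 1 1) eAB
    simp only [Torus.mul_entry] at q00 q01 q10 q11
    rw [map_add, ← hσ τ hτL 0 0, ← hσ τ hτL 1 1, ← hB]
    linear_combination A 1 1 * q00 + A 0 1 * q10 + A 1 0 * q01 + A 0 0 * q11 -
      (B 0 0 + B 1 1 - M 0 0 - M 1 1) * hdA +
      (A 1 1 * M 0 1 * A 1 0 + A 0 1 * M 1 0 * A 0 0 -
        A 1 1 * A 0 1 * B 1 0 - A 1 0 * A 0 0 * B 0 1) * (CharTwo.two_eq_zero : (2 : F) = 0)
  have hroot := congrArg σ htr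
  rw [map_add, map_add, map_mul, map_mul, htrσ, map_one, map_zero] at hroot
  have h2δ : (σ δ - δ) * (σ δ + δ + (M 0 0 + M 1 1)) = 0 := by linear_combination hroot - htr
  have hσ2 : σ (σ δ) = δ := by
    rcases mul_eq_zero.1 h2δ with e1 | e1
    · rw [sub_eq_zero.1 e1, sub_eq_zero.1 e1]
    · have e2 : σ δ = δ + (M 0 0 + M 1 1) := by
        linear_combination e1 - (δ + (M 0 0 + M 1 1)) * (CharTwo.two_eq_zero : (2 : F) = 0)
      rw [e2, map_add, htrσ, e2, add_assoc, CharTwo.add_self_eq_zero, add_zero]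
  have hfix : σ δ = δ := by
    have hev : ∀ k : ℕ, (σ ^ (2 * k)) δ = δ := fun k => by
      induction k with
      | zero => rfl
      | succ k ih =>
        rw [show 2 * (k + 1) = 2 * k + 2 by ring, pow_add, RingAut.mul_apply,
          show (σ ^ 2) δ = σ (σ δ) by rw [sq]; rfl, hσ2, ih]
    obtain ⟨k, hk⟩ := hodd
    have e1 : σ ^ (2 * (k + 1)) = σ := by
      rw [show 2 * (k + 1) = orderOf σ + 1 by omega, pow_succ, pow_orderOf_eq_one, one_mul]
    have e2 := hev (k + 1)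
    rwa [e1] at e2
  by_contra hσ1
  obtain ⟨i, -, hi⟩ := (Nat.dvd_prime_pow P.prime).1 (orderOf_dvd_of_pow_eq_one hσp)
  obtain ⟨i, rfl⟩ : ∃ j, i = j + 1 := by
    refine Nat.exists_eq_succ_of_ne_zero fun e0 => hσ1 ?_
    rw [e0, pow_zero] at hi
    exact orderOf_eq_one_iff.1 hi
  refine no_fixed_root fr.card_F P.prime P.ne_two (σ := σ ^ (p ^ i)) ?_ ?_ hord P.pos P.dvd P.not_dvd ?_
  · rw [← pow_mul, ← pow_succ, ← hi, pow_orderOf_eq_one]
  · intro e1
    have h1 := orderOf_dvd_of_pow_eq_one e1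
    rw [hi, Nat.pow_dvd_pow_iff_le_right P.prime.one_lt] at h1
    omega
  · have hst : σ ∈ MulAction.stabilizer (RingAut F) δ := hfix
    exact pow_mem hst _

/-- The Sylow `p`-subgroups of the stabiliser meet `L₀` in conjugates of `⟨τ⟩`. -/
theorem Part.sylow_inter (P : Part fr ρ p e τ) {R : Subgroup G} (hR : R ≤ Nb a t Q)
    (hcard : Nat.card R = p ^ (Nat.card (Nb a t Q)).factorization p) :
    ∃ l ∈ L0 a t Q, ∀ x : G, x ∈ R ∧ x ∈ L0 a t Q ↔ l⁻¹ * x * l ∈ Subgroup.zpowers τ := by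
  classical
  haveI : Fact p.Prime := ⟨P.prime⟩
  haveI hn : ((L0 a t Q).subgroupOf (Nb a t Q)).Normal :=
    ⟨fun x hx g => conj_L0 h fr hW g.2 hx⟩
  have hI : (L0 a t Q).relIndex R ∣ (L0 a t Q).relIndex (Nb a t Q) := by
    rw [← Subgroup.relIndex_subgroupOf hR]
    exact Subgroup.relIndex_dvd_index_of_normal _ _
  have e1 : Nat.card ↥(L0 a t Q ⊓ R) * (L0 a t Q).relIndex R = Nat.card R := by
    rw [Subgroup.relIndex, ← Nat.card_congr (Subgroup.subgroupOfEquivOfLe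
      (inf_le_right : L0 a t Q ⊓ R ≤ R)).toEquiv, Subgroup.inf_subgroupOf_right]
    exact ((L0 a t Q).subgroupOf R).card_mul_index
  have e2 : Nat.card (L0 a t Q) * (L0 a t Q).relIndex (Nb a t Q) = Nat.card (Nb a t Q) := by
    rw [Subgroup.relIndex, ← Nat.card_congr (Subgroup.subgroupOfEquivOfLe
      (L0_le_Nb h hW : L0 a t Q ≤ Nb a t Q)).toEquiv]
    exact ((L0 a t Q).subgroupOf (Nb a t Q)).card_mul_index
  have hU : IsPGroup p ↥(L0 a t Q ⊓ R) := (IsPGroup.of_card hcard).to_le inf_le_right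
  obtain ⟨k, hk⟩ := IsPGroup.iff_card.1 hU
  have hN0 : (L0 a t Q).relIndex (Nb a t Q) ≠ 0 := Subgroup.FiniteIndex.index_ne_zero
  have hR0 : (L0 a t Q).relIndex R ≠ 0 := Subgroup.FiniteIndex.index_ne_zero
  have hke : k = e := by
    have f1 := congrArg (fun m => Nat.factorization m p) e1
    have f2 := congrArg (fun m => Nat.factorization m p) e2
    simp only [Nat.factorization_mul Nat.card_pos.ne' hR0,
      Nat.factorization_mul Nat.card_pos.ne' hN0, Finsupp.coe_add, Pi.add_apply,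
      P.factorization_L0 (h := h) (hW := hW)] at f1 f2
    rw [hk, hcard, P.prime.factorization_pow, P.prime.factorization_pow] at f1
    simp at f1
    have f3 := (Nat.factorization_le_iff_dvd hR0 hN0).2 hI p
    have f4 : k ≤ e := by
      rw [← Nat.pow_dvd_pow_iff_le_right P.prime.one_lt, ← hk]
      exact P.card_le (h := h) (hW := hW) inf_le_left hU
    omega
  subst hke
  have hf := P.factorization_L0 (h := h) (hW := hW)
  let S1 : Sylow p ↥(L0 a t Q) := Sylow.ofCard ((L0 a t Q ⊓ R).subgroupOf (L0 a t Q)) (by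
    rw [hf, Nat.card_congr (Subgroup.subgroupOfEquivOfLe inf_le_left).toEquiv, hk])
  let S2 : Sylow p ↥(L0 a t Q) := Sylow.ofCard ((Subgroup.zpowers τ).subgroupOf (L0 a t Q)) (by
    rw [hf, Nat.card_congr (Subgroup.subgroupOfEquivOfLe (fun _ hy => P.mem_L0 hy)).toEquiv,
      Nat.card_zpowers, P.order])
  obtain ⟨l, hl⟩ := MulAction.exists_smul_eq ↥(L0 a t Q) S2 S1
  refine ⟨l, l.2, fun x => ?_⟩
  have key : ∀ y : ↥(L0 a t Q), y ∈ S1.toSubgroup ↔ l⁻¹ * y * l ∈ S2.toSubgroup := fun y => by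
    rw [← hl, Sylow.coe_subgroup_smul, Subgroup.mem_pointwise_smul_iff_inv_smul_mem,
      MulAut.smul_def, MulAut.inv_def, MulAut.conj_symm_apply]
  constructor
  · rintro ⟨hxR, hxL⟩
    exact (key ⟨x, hxL⟩).1 ⟨hxL, hxR⟩
  · intro hx
    have hxL : x ∈ L0 a t Q := by
      have h1 := mul_mem (mul_mem l.2 (P.mem_L0 hx)) (inv_mem l.2)
      simpa [mul_assoc] using h1
    exact ⟨((key ⟨x, hxL⟩).2 hx).2, hxL⟩

/-- The case of `galois` in which `g` normalises `⟨τ⟩`. -/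
theorem Part.galois_norm (P : Part fr ρ p e τ) (loc : Local fr ρ) {g : G} (hg : g ∈ Nb a t Q)
    (hgp : g ^ p = 1) (hfree : ∀ c ∈ blockB a t Q, g • c ≠ c)
    (hn : g * τ * g⁻¹ ∈ Subgroup.zpowers τ) : ∃ x ∈ L0 a t Q, ∃ w ∈ W a t, g = x * w := by
  classical
  haveI : Fact p.Prime := ⟨P.prime⟩
  haveI := finite_points h.setup
  by_cases hc : Commute g τ
  · exact P.central_case (h := h) (hW := hW) loc hg (r := 1) (by rw [pow_one]; exact hgp) hc
  exfalso
  obtain ⟨s, hs⟩ := hn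
  have hs' : g * τ * g⁻¹ = τ ^ s := hs.symm
  have hpow : ∀ i : ℕ, g ^ i * τ * (g ^ i)⁻¹ = τ ^ (s ^ i) := by
    intro i
    induction i with
    | zero => simp
    | succ i ih =>
      calc g ^ (i + 1) * τ * (g ^ (i + 1))⁻¹ = g * (g ^ i * τ * (g ^ i)⁻¹) * g⁻¹ := by
            rw [pow_succ']; group
        _ = (g * τ * g⁻¹) ^ (s ^ i) := by rw [ih, conj_zpow]
        _ = τ ^ (s ^ (i + 1)) := by rw [hs', ← zpow_mul, pow_succ']
  have hpowm : ∀ (i : ℕ) (m : ℤ), g ^ i * τ ^ m * (g ^ i)⁻¹ = τ ^ (s ^ i * m) := fun i m => by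
    rw [← conj_zpow, hpow, ← zpow_mul]
  have hdvd : ∀ m : ℤ, τ ^ m = 1 ↔ (p : ℤ) ^ e ∣ m := fun m => by
    rw [← orderOf_dvd_iff_zpow_eq_one, P.order, Nat.cast_pow]
  have hsp : (p : ℤ) ^ e ∣ s ^ p - 1 := by
    rw [← hdvd, zpow_sub, zpow_one, ← hpow, hgp]
    group
  have hs1 : ¬ (p : ℤ) ^ e ∣ s - 1 := by
    rw [← hdvd, zpow_sub, zpow_one, mul_inv_eq_one, ← hs']
    exact fun e1 => hc (mul_inv_eq_iff_eq_mul.1 e1)
  have hg1 : g ≠ 1 := fun e1 => hc (e1 ▸ Commute.one_left τ)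
  set T := Subgroup.zpowers τ with hT
  have hconj : ∀ (i : ℕ) (y : G), y ∈ T → g ^ i * y * (g ^ i)⁻¹ ∈ T := by
    rintro i y ⟨m, rfl⟩
    exact ⟨_, (hpowm i m).symm⟩
  have hgi : g ^ (p - 1) = g⁻¹ := eq_inv_of_mul_eq_one_left (by
    rw [← pow_succ, Nat.sub_add_cancel P.prime.one_lt.le, hgp])
  have hnorm : Subgroup.zpowers g ≤ Subgroup.normalizer (T : Set G) := by
    refine Subgroup.zpowers_le.2 (Subgroup.mem_normalizer_iff.2 fun y => ⟨fun hy => by
      simpa using hconj 1 y hy, fun hy => ?_⟩)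
    have h1 := hconj (p - 1) _ hy
    rw [hgi] at h1
    simpa [mul_assoc] using h1
  set R := Subgroup.zpowers g ⊔ T with hR
  have hRp : IsPGroup p R := (IsPGroup.of_card (n := 1) (by
    rw [Nat.card_zpowers, orderOf_eq_prime hgp hg1, pow_one])).to_sup_of_normal_right' P.isPGroup hnorm
  obtain ⟨k, hk⟩ := IsPGroup.iff_card.1 hRp
  have hek : e < k := by
    rw [← Nat.pow_lt_pow_iff_right P.prime.one_lt, ← hk, ← P.order, ← Nat.card_zpowers]
    refine lt_of_not_ge fun hle => ?_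
    have e1 := Subgroup.eq_of_le_of_card_ge (H := T) (K := R) le_sup_right hle
    have h1 : g ∈ R := Subgroup.mem_sup_left (Subgroup.mem_zpowers g)
    rw [← e1] at h1
    obtain ⟨m, rfl⟩ := h1
    exact hc ((Commute.refl τ).zpow_left m)
  -- `R` is not free on the block
  have hRN : R ≤ Nb a t Q := sup_le (Subgroup.zpowers_le.2 hg)
    (fun y hy => L0_le_Nb h hW (P.mem_L0 hy))
  letI : MulAction R (blockB a t Q) :=
    { smul := fun r c => ⟨(r : G) • (c : Ω), smul_mem_B (hRN r.2) c.2⟩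
      one_smul := fun c => Subtype.ext (one_smul G (c : Ω))
      mul_smul := fun r r' c => Subtype.ext (mul_smul (r : G) (r' : G) (c : Ω)) }
  obtain ⟨c, r, hr1, hrc⟩ : ∃ (c : blockB a t Q) (r : R), r ≠ 1 ∧ (r : G) • (c : Ω) = c := by
    by_contra hno
    push Not at hno
    have hst : ∀ c : blockB a t Q, MulAction.stabilizer R c = ⊥ := fun c =>
      (Subgroup.eq_bot_iff_forall _).2 fun r hr => by
        by_contra hne
        exact hno c r hne (congrArg Subtype.val hr)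
    have e1 := Nat.card_congr (MulAction.selfEquivOrbitsQuotientProd hst)
    rw [Nat.card_prod, card_block h fr, hk] at e1
    exact P.not_dvd ((pow_dvd_pow p hek).trans ⟨_, by rw [e1, mul_comm]⟩)
  obtain ⟨u, hu, y, hy, huy⟩ : (r : G) ∈ ((Subgroup.zpowers g : Set G) * (T : Set G)) := by
    rw [← Subgroup.coe_mul_of_left_le_normalizer_right _ _ hnorm]
    exact r.2
  obtain ⟨i, rfl⟩ := mem_powers_iff_mem_zpowers.2 hu
  have hr' : (r : G) = g ^ i * y := huy.symm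
  have hsemi : ∀ y ∈ T, ∀ c : Ω, y • c = c → y = 1 := fun y hy c hyc => by
    by_contra hne
    exact loc.torus_semireg y (P.mem_torus hy) hne c hyc
  by_cases hpi : p ∣ i
  · obtain ⟨i', rfl⟩ := hpi
    rw [pow_mul, hgp, one_pow, one_mul] at hr'
    exact hr1 (Subtype.ext (hr'.trans (hsemi y hy c (hr' ▸ hrc))))
  obtain ⟨m, -, hm⟩ := Nat.exists_mul_mod_eq_one_of_coprime
    ((Nat.coprime_comm.1 (P.prime.coprime_iff_not_dvd.2 hpi))) P.prime.one_lt
  have hrpow : ∀ m : ℕ, ∃ y' ∈ T, (r : G) ^ m = g ^ (i * m) * y' := by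
    intro m
    induction m with
    | zero => exact ⟨1, one_mem _, by simp⟩
    | succ m ih =>
      obtain ⟨y', hy', e'⟩ := ih
      have hin : (g ^ i)⁻¹ ∈ Subgroup.normalizer (T : Set G) :=
        inv_mem (pow_mem (hnorm (Subgroup.mem_zpowers g)) i)
      have h3 : (g ^ i)⁻¹ * y' * ((g ^ i)⁻¹)⁻¹ ∈ T := (Subgroup.mem_normalizer_iff.1 hin y').1 hy'
      refine ⟨(g ^ i)⁻¹ * y' * g ^ i * y, mul_mem (by simpa using h3) hy, ?_⟩
      rw [pow_succ, e', hr', show i * (m + 1) = i * m + i by ring, pow_add]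
      group
  obtain ⟨y', ⟨j', hj'⟩, e'⟩ := hrpow m
  have hgm : g ^ (i * m) = g := by
    rw [pow_eq_pow_mod (i * m) hgp, hm, pow_one]
  rw [hgm, ← show τ ^ j' = y' from hj'] at e'
  obtain ⟨j, hj⟩ : ∃ j, j = s * j' := ⟨_, rfl⟩
  have hfix : (τ ^ j * g) • (c : Ω) = c := by
    have h1 : (r : G) ∈ MulAction.stabilizer G (c : Ω) := hrc
    have h2 : (r : G) ^ m = τ ^ j * g := by
      rw [e', hj, zpow_mul, ← hs', conj_zpow, inv_mul_cancel_right]
    exact h2 ▸ pow_mem h1 m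
  -- its `p`-th power is a power of `τ`
  have hsum : ∀ m : ℕ, (τ ^ j * g) ^ m = τ ^ (j * ∑ i ∈ Finset.range m, s ^ i) * g ^ m := by
    intro m
    induction m with
    | zero => simp
    | succ m ih =>
      rw [pow_succ, ih, Finset.sum_range_succ, mul_add, zpow_add, mul_comm j (s ^ m), ← hpowm,
        pow_succ]
      group
  have hjS : (p : ℤ) ^ e ∣ j * ∑ i ∈ Finset.range p, s ^ i := by
    rw [← hdvd]
    refine hsemi _ (Subgroup.zpow_mem_zpowers _ _) c ?_
    have h1 : (τ ^ j * g) ^ p ∈ MulAction.stabilizer G (c : Ω) := pow_mem hfix p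
    rwa [hsum, hgp, mul_one] at h1
  obtain ⟨k', hk'⟩ := exists_solution P.prime P.ne_two hsp hs1 hjS
  refine hfree (τ ^ (-k') • (c : Ω))
    (smul_mem_B (L0_le_Nb h hW (P.mem_L0 (Subgroup.zpow_mem_zpowers _ _))) c.2) ?_
  have hgc : g • (c : Ω) = τ ^ (-j) • (c : Ω) := by
    rw [mul_smul] at hfix
    rw [zpow_neg, eq_inv_smul_iff]
    exact hfix
  rw [smul_smul, show g * τ ^ (-k') = τ ^ (s * -k') * g by
    rw [zpow_mul, ← hs', conj_zpow, inv_mul_cancel_right], mul_smul, hgc, smul_smul, ← zpow_add]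
  refine congrArg (· • (c : Ω)) ((zpow_eq_zpow_iff_modEq).2 ?_)
  rw [P.order, Int.modEq_iff_dvd, Nat.cast_pow]
  exact ⟨hk'.choose, by linear_combination hk'.choose_spec⟩

/-- A fixed-point-free element of order `p` of the stabiliser lies in `L₀ W`. -/
theorem Part.galois (P : Part fr ρ p e τ) (loc : Local fr ρ) {g : G} (hg : g ∈ Nb a t Q)
    (hgp : g ^ p = 1) (hfree : ∀ c ∈ blockB a t Q, g • c ≠ c) :
    ∃ x ∈ L0 a t Q, ∃ w ∈ W a t, g = x * w := by
  classical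
  haveI : Fact p.Prime := ⟨P.prime⟩
  have hgP : IsPGroup p (Subgroup.zpowers (⟨g, hg⟩ : Nb a t Q)) := by
    obtain ⟨i, -, hi⟩ := (Nat.dvd_prime_pow P.prime).1 (orderOf_dvd_of_pow_eq_one (n := p ^ 1)
      (x := (⟨g, hg⟩ : Nb a t Q)) (Subtype.ext (by rw [pow_one]; exact hgp)))
    exact IsPGroup.of_card (by rw [Nat.card_zpowers, hi])
  obtain ⟨S, hS⟩ := hgP.exists_le_sylow
  set R := (S : Subgroup (Nb a t Q)).map (Nb a t Q).subtype with hR
  have hgR : g ∈ R := ⟨⟨g, hg⟩, hS (Subgroup.mem_zpowers _), rfl⟩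
  obtain ⟨l, hl, hlR⟩ := P.sylow_inter (h := h) (hW := hW) (R := R)
    (Subgroup.map_subtype_le _) (by
      rw [hR, Subgroup.card_subtype]
      exact S.card_eq_multiplicity)
  have hlN := L0_le_Nb h hW hl
  obtain ⟨x, hx, w, hw, e1⟩ := P.galois_norm (h := h) (hW := hW) loc (g := l⁻¹ * g * l)
    (mul_mem (mul_mem (inv_mem hlN) hg) hlN)
    (by rw [show l⁻¹ * g * l = l⁻¹ * g * (l⁻¹)⁻¹ by group, conj_pow, hgp]; group)
    (fun c hc e1 => hfree (l • c) (smul_mem_B hlN hc) (by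
      rw [mul_smul, mul_smul, inv_smul_eq_iff] at e1
      exact e1))
    (by
      have hτ' : (l * τ * l⁻¹) ∈ R ∧ (l * τ * l⁻¹) ∈ L0 a t Q :=
        (hlR _).2 (by
          rw [show l⁻¹ * (l * τ * l⁻¹) * l = τ by group]
          exact Subgroup.mem_zpowers τ)
      have h2 := (hlR (g * (l * τ * l⁻¹) * g⁻¹)).1
        ⟨mul_mem (mul_mem hgR hτ'.1) (inv_mem hgR), conj_L0 h fr hW hg hτ'.2⟩
      rwa [show l⁻¹ * g * l * τ * (l⁻¹ * g * l)⁻¹ =
        l⁻¹ * (g * (l * τ * l⁻¹) * g⁻¹) * l by group])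
  refine ⟨l * x * l⁻¹, mul_mem (mul_mem hl hx) (inv_mem hl), w, hw, ?_⟩
  calc g = l * (l⁻¹ * g * l) * l⁻¹ := by group
    _ = l * x * (w * l⁻¹) := by rw [e1]; group
    _ = _ := by rw [← W_comm_L0 h hw (inv_mem hl)]; group

end Cfsg.Agent.Involutions.RankOne.U3.Idx
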