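import Cfsg.Agent.Lib.Involutions.RankOne.U3.Local.Cover
import Cfsg.Agent.Lib.Involutions.RankOne.U3.Index.Galois

/-!
# The members as a trivial-intersection family

Centralisers of the good elements of `⟨τ⟩` stabilise the block; such elements are not fused outside it.
-/

set_option autoImplicit false
set_option linter.unusedSectionVars false
set_option linter.style.haveILetI false

namespace Cfsg.Agent.Involutions.RankOne.U3.Idx

open MulAction Involutions.Basic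

variable {G Ω : Type*} [Group G] [Finite G] [MulAction G Ω] [FaithfulSMul G Ω] {a : Ω} {t : G}
  {Q : Subgroup G} {n : ℕ} {F : Type*} [Field F] [Fintype F] [CharP F 2]
variable {h : Setting G Ω a t Q n} {fr : Frame a t Q n F} {hW : W a t ≠ ⊥} {ρ : F} {p e : ℕ} {τ : G}

omit [Finite G] [FaithfulSMul G Ω] [Fintype F] [CharP F 2] in
theorem semireg_conj {x : G} (hx : Semireg Ω x) (g : G) : Semireg Ω (g * x * g⁻¹) := fun c e =>
  hx (g⁻¹ • c) (by
    rw [mul_smul, mul_smul] at e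
    exact eq_inv_smul_iff.2 e)

include h

theorem eq_one_of_dvd_both {k : ℕ} (h1 : k ∣ 2 ^ n + 1) (h2 : k ∣ 2 ^ n - 1) : k = 1 := by
  have hq : 1 ≤ 2 ^ n := Nat.one_le_two_pow
  have h3 := Nat.dvd_sub h1 h2
  rw [show 2 ^ n + 1 - (2 ^ n - 1) = 2 by omega] at h3
  rcases (Nat.dvd_prime Nat.prime_two).1 h3 with e | e
  · exact e
  · subst e
    have hqe : Even (2 ^ n) := Nat.even_pow.2 ⟨even_two, by linarith [h.two_le]⟩
    exact absurd (even_iff_two_dvd.2 h1) (Nat.not_even_iff_odd.2 (Even.add_one hqe))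

/-- The centraliser of a semiregular element has odd order. -/
theorem odd_centralizer {x : G} (hx : Semireg Ω x) :
    Odd (Nat.card ↥(Subgroup.centralizer ({x} : Set G))) := by
  by_contra hev
  rw [Nat.not_odd_iff_even, even_iff_two_dvd] at hev
  haveI : Fact (Nat.Prime 2) := ⟨Nat.prime_two⟩
  obtain ⟨⟨i, hi⟩, ho⟩ := exists_prime_orderOf_dvd_card' 2 hev
  rw [Subgroup.orderOf_mk] at ho
  have hi1 : i ≠ 1 := fun e => by rw [e, orderOf_one] at ho; norm_num at ho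
  have hi2 : i * i = 1 := by rw [← sq, ← ho, pow_orderOf_eq_one]
  obtain ⟨c, hc, hu⟩ := fixed_unique h.setup hi1 hi2
  refine hx c (hu (x • c) ?_)
  show i • x • c = x • c
  rw [smul_smul, Subgroup.mem_centralizer_singleton_iff.1 hi, mul_smul, hc]

/-- An element inverted by `t` commuting with a semiregular one of order dividing `q + 1`. -/
theorem commuting_semireg (loc : Local fr ρ) {x y : G} (hx : Semireg Ω x) (hxd : orderOf x ∣ 2 ^ n + 1)
    (hxt : t * x * t⁻¹ = x⁻¹) (hy1 : y ≠ 1) (hyt : t * y * t⁻¹ = y⁻¹) (hc : Commute x y) :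
    Semireg Ω y := by
  have hodd : ∀ z : G, Commute x z → Odd (orderOf z) := fun z hz => by
    have := orderOf_dvd_natCard (⟨z, Subgroup.mem_centralizer_singleton_iff.2 hz.eq.symm⟩ :
      ↥(Subgroup.centralizer ({x} : Set G)))
    rw [Subgroup.orderOf_mk] at this
    exact (odd_centralizer (h := h) hx).of_dvd_nat this
  refine (loc.inverted y (hodd y hc) hy1 hyt).resolve_right fun hd => ?_
  have hcop : Nat.Coprime (orderOf x) (orderOf y) :=
    eq_one_of_dvd_both (h := h) ((Nat.gcd_dvd_left _ _).trans hxd) ((Nat.gcd_dvd_right _ _).trans hd)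
  have ho := hc.orderOf_mul_eq_mul_orderOf_of_coprime hcop
  have hxy : t * (x * y) * t⁻¹ = (x * y)⁻¹ := by
    rw [show t * (x * y) * t⁻¹ = (t * x * t⁻¹) * (t * y * t⁻¹) by group, hxt, hyt, hc.eq,
      _root_.mul_inv_rev]
  have hne : x * y ≠ 1 := fun e => hy1 (by
    rw [e, orderOf_one, eq_comm, mul_eq_one] at ho
    exact orderOf_eq_one_iff.1 ho.2)
  rcases loc.inverted _ (hodd _ ((Commute.refl x).mul_right hc)) hne hxy with hs | hd'
  · obtain ⟨M, ⟨⟨⟨u, rfl⟩, -⟩, hM⟩, -⟩ := loc.cover _ hs hxy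
    have h1 := orderOf_dvd_natCard (⟨x * y, hM⟩ : ↥((fr.torusG ρ).map (MulAut.conj u).toMonoidHom))
    rw [Subgroup.orderOf_mk, Subgroup.card_map_of_injective (MulEquiv.injective _), loc.torus_card,
      ho] at h1
    exact hy1 (orderOf_eq_one_iff.1 (eq_one_of_dvd_both (h := h) ((dvd_mul_left _ _).trans h1) hd))
  · rw [ho] at hd'
    have h1 := orderOf_eq_one_iff.1 (eq_one_of_dvd_both (h := h) hxd ((dvd_mul_right _ _).trans hd'))
    rw [h1, one_mul] at hne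
    exact hx a (by rw [h1, one_smul])

include fr in
theorem torus_member (loc : Local fr ρ) : fr.IsMember ρ (fr.torusG ρ) :=
  ⟨⟨1, by
    ext x
    simp⟩, loc.torus_inverted⟩

/-- Two members with a common element are equal. -/
theorem member_eq (loc : Local fr ρ) {A B : Subgroup G} (hA : fr.IsMember ρ A) (hB : fr.IsMember ρ B)
    {x : G} (hx1 : x ≠ 1) (hxA : x ∈ A) (hxB : x ∈ B) : A = B := by
  obtain ⟨⟨g, hg⟩, hinv⟩ := hA
  have hs : Semireg Ω x := by
    rw [hg] at hxA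
    obtain ⟨u, hu, rfl⟩ := hxA
    exact semireg_conj (loc.torus_semireg u hu (fun e => hx1 (by rw [e]; simp))) g
  exact (loc.cover x hs (hinv x hxA)).unique ⟨⟨⟨g, hg⟩, hinv⟩, hxA⟩ ⟨hB, hxB⟩

theorem Part.tau_props (P : Part fr ρ p e τ) (loc : Local fr ρ) {x : G} (hx : x ∈ Subgroup.zpowers τ)
    (hx1 : x ≠ 1) : Semireg Ω x ∧ orderOf x ∣ 2 ^ n + 1 ∧ t * x * t⁻¹ = x⁻¹ ∧ x ^ (p ^ e) = 1 := by
  have hd : orderOf x ∣ p ^ e := P.order ▸ orderOf_dvd_of_mem_zpowers hx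
  exact ⟨loc.torus_semireg x (P.mem_torus hx) hx1, hd.trans P.dvd,
    loc.torus_inverted x (P.mem_torus hx), orderOf_dvd_iff_pow_eq_one.1 hd⟩

/-- The number of blocks is prime to `p ≠ 3`. -/
theorem Part.not_dvd_index (P : Part fr ρ p e τ) (hW : W a t ≠ ⊥) (hp3 : p ≠ 3) :
    ¬ p ∣ (Nb a t Q).index := by
  intro hd
  have h1 := index_Nb h fr hW
  obtain ⟨q', hq'⟩ : ∃ q', 2 ^ n = q' + 1 := ⟨2 ^ n - 1, by have := Nat.one_le_two_pow (n := n); omega⟩
  have h2 : (Nb a t Q).index = (2 ^ n) ^ 2 * (2 ^ n * q' + 1) := by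
    refine Nat.eq_of_mul_eq_mul_right (show 0 < 2 ^ n + 1 by omega) (h1.trans ?_)
    rw [hq']
    ring
  rw [h2] at hd
  rcases P.prime.dvd_mul.1 hd with hd | hd
  · exact P.not_dvd_q (P.prime.dvd_of_dvd_pow hd)
  · refine hp3 ((Nat.prime_dvd_prime_iff_eq P.prime Nat.prime_three).1 ?_)
    have h3 : ((p : ℕ) : ℤ) ∣ ((2 ^ n * q' + 1 : ℕ) : ℤ) := Int.natCast_dvd_natCast.2 hd
    have h4 : ((p : ℕ) : ℤ) ∣ ((2 ^ n + 1 : ℕ) : ℤ) := Int.natCast_dvd_natCast.2 P.dvd_q1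
    have hq : ((2 ^ n : ℕ) : ℤ) = q' + 1 := by rw [hq']; push_cast; ring
    push_cast at h3 h4 hq
    rw [hq] at h3 h4
    refine Int.natCast_dvd_natCast.1 (?_ : (p : ℤ) ∣ ((3 : ℕ) : ℤ))
    have h5 := dvd_sub h3 (h4.mul_right ((q' : ℤ) - 1))
    push_cast
    rwa [show ((q' : ℤ) + 1) * q' + 1 - ((q' : ℤ) + 1 + 1) * ((q' : ℤ) - 1) = 3 by ring] at h5

include hW

/-- Inside `L₀ × W` two commuting semiregular elements of order `p` span one subgroup. -/
theorem Part.not_rank_two (P : Part fr ρ p e τ) (loc : Local fr ρ) (hp5 : 5 ≤ p) {x y : G}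
    (hxs : Semireg Ω x) (hxd : orderOf x ∣ 2 ^ n + 1) (hxt : t * x * t⁻¹ = x⁻¹)
    (hxp : x ^ p = 1) (hyp : y ^ p = 1) (hyt : t * y * t⁻¹ = y⁻¹) (hc : Commute x y) :
    y ∈ Subgroup.zpowers x := by
  classical
  haveI : Fact p.Prime := ⟨P.prime⟩
  by_contra hyx
  have hx1 : x ≠ 1 := fun e1 => hxs a (by rw [e1, one_smul])
  have hy1 : y ≠ 1 := fun e1 => hyx (e1 ▸ one_mem _)
  have hys := commuting_semireg (h := h) loc hxs hxd hxt hy1 hyt hc
  have hpg : ∀ {u : G}, u ≠ 1 → u ^ p = 1 → IsPGroup p (Subgroup.zpowers u) := fun hu1 hu =>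
    IsPGroup.of_card (n := 1) (by rw [Nat.card_zpowers, orderOf_eq_prime hu hu1, pow_one])
  have hpg' : ∀ {u v : G}, u ≠ 1 → v ≠ 1 → u ^ p = 1 → v ^ p = 1 → Commute u v →
      IsPGroup p (Subgroup.zpowers u ⊔ Subgroup.zpowers v : Subgroup G) := fun {u v} hu1 hv1 hu hv huv =>
    (hpg hu1 hu).to_sup_of_normal_right' (hpg hv1 hv) (Subgroup.zpowers_le.2
      (Subgroup.mem_normalizer_iff.2 fun w => by
        constructor
        · rintro ⟨k, rfl⟩
          exact ⟨k, by rw [(huv.zpow_right k).eq, mul_inv_cancel_right]⟩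
        · rintro ⟨k, hk⟩
          refine ⟨k, ?_⟩
          calc v ^ k = u⁻¹ * (u * v ^ k) := by group
            _ = u⁻¹ * (v ^ k * u) := by rw [(huv.zpow_right k).eq]
            _ = w := by rw [show v ^ k = u * w * u⁻¹ from hk]; group))
  set E := Subgroup.zpowers x ⊔ Subgroup.zpowers y with hE
  have hEp : IsPGroup p E := hpg' hx1 hy1 hxp hyp hc
  obtain ⟨c, hfix⟩ := hEp.nonempty_fixed_point_of_prime_not_dvd_card (G ⧸ Nb a t Q)
    (P.not_dvd_index (h := h) hW (by omega))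
  obtain ⟨g, rfl⟩ := QuotientGroup.mk_surjective c
  have hgN : ∀ u ∈ E, g⁻¹ * u * g ∈ Nb a t Q := fun u hu => by
    have h1 : ((u * g : G) : G ⧸ Nb a t Q) = (g : G ⧸ Nb a t Q) := hfix ⟨u, hu⟩
    simpa [mul_assoc] using QuotientGroup.eq.1 h1.symm
  have hxE : x ∈ E := Subgroup.mem_sup_left (Subgroup.mem_zpowers x)
  have hyE : y ∈ E := Subgroup.mem_sup_right (Subgroup.mem_zpowers y)
  have hfree : ∀ {u : G}, Semireg Ω u → ∀ c ∈ blockB a t Q, (g⁻¹ * u * g) • c ≠ c := fun hu c _ => by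
    simpa using semireg_conj hu g⁻¹ c
  have hpow : ∀ {u : G}, u ^ p = 1 → (g⁻¹ * u * g) ^ p = 1 := fun {u} hu => by
    rw [show g⁻¹ * u * g = g⁻¹ * u * (g⁻¹)⁻¹ by group, conj_pow, hu]; group
  obtain ⟨l₁, hl₁, w₁, hw₁, e₁⟩ :=
    P.galois (h := h) (hW := hW) loc (hgN x hxE) (hpow hxp) (hfree hxs)
  obtain ⟨l₂, hl₂, w₂, hw₂, e₂⟩ :=
    P.galois (h := h) (hW := hW) loc (hgN y hyE) (hpow hyp) (hfree hys)
  have cLW : ∀ {l w : G}, l ∈ L0 a t Q → w ∈ W a t → Commute l w := fun hl hw => W_comm_L0 h hw hl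
  have hp1 : ∀ {l w : G}, l ∈ L0 a t Q → w ∈ W a t → (l * w) ^ p = 1 → l ^ p = 1 := fun {l w} hl hw e => by
    rw [(cLW hl hw).mul_pow] at e
    refine eq_one_of_L0_W h fr (pow_mem hl p) ?_
    rw [eq_inv_of_mul_eq_one_left e]
    exact inv_mem (pow_mem hw p)
  have hl₁p := hp1 hl₁ hw₁ (e₁ ▸ hpow hxp)
  have hl₂p := hp1 hl₂ hw₂ (e₂ ▸ hpow hyp)
  have hfixa : ∀ {w : G}, w ∈ W a t → w • a = a := fun hw => (mem_D.1 (W_le hw)).1
  have hl₁1 : l₁ ≠ 1 := fun e1 => by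
    rw [e1, one_mul] at e₁
    exact hfree hxs a a_mem_B (e₁ ▸ hfixa hw₁)
  have hl₂1 : l₂ ≠ 1 := fun e1 => by
    rw [e1, one_mul] at e₂
    exact hfree hys a a_mem_B (e₂ ▸ hfixa hw₂)
  have hll : Commute l₁ l₂ := by
    have h1 : (l₁ * l₂) * (w₁ * w₂) = (l₂ * l₁) * (w₂ * w₁) := by
      calc (l₁ * l₂) * (w₁ * w₂) = l₁ * (l₂ * w₁) * w₂ := by group
        _ = (g⁻¹ * x * g) * (g⁻¹ * y * g) := by rw [(cLW hl₂ hw₁).eq, e₁, e₂]; group
        _ = g⁻¹ * (x * y) * g := by group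
        _ = (g⁻¹ * y * g) * (g⁻¹ * x * g) := by rw [hc.eq]; group
        _ = l₂ * (w₂ * l₁) * w₁ := by rw [e₁, e₂]; group
        _ = _ := by rw [← (cLW hl₁ hw₂).eq]; group
    exact (decomp_unique h fr (mul_mem hl₁ hl₂) (mul_mem hl₂ hl₁) (W_le (mul_mem hw₁ hw₂))
      (W_t (mul_mem hw₁ hw₂)) (W_le (mul_mem hw₂ hw₁)) (W_t (mul_mem hw₂ hw₁)) h1).1
  -- `l₂` is a power of `l₁`
  obtain ⟨i, hi⟩ : ∃ i : ℕ, l₂ = l₁ ^ i := by
    set U := Subgroup.zpowers l₁ ⊔ Subgroup.zpowers l₂ with hU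
    have hUp : IsPGroup p U := hpg' hl₁1 hl₂1 hl₁p hl₂p hll
    have hUL : U ≤ L0 a t Q := sup_le (Subgroup.zpowers_le.2 hl₁) (Subgroup.zpowers_le.2 hl₂)
    haveI : Group.IsNilpotent U := hUp.isNilpotent
    haveI : IsCyclic U := cyclic_of_odd h fr hUL inferInstance
      ((P.card_le (h := h) (hW := hW) hUL hUp).trans P.dvd)
    haveI := Fintype.ofFinite U
    let u₁ : U := ⟨l₁, Subgroup.mem_sup_left (Subgroup.mem_zpowers _)⟩
    let u₂ : U := ⟨l₂, Subgroup.mem_sup_right (Subgroup.mem_zpowers _)⟩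
    have ho : orderOf u₁ = p := by rw [Subgroup.orderOf_mk, orderOf_eq_prime hl₁p hl₁1]
    have hsub : Finset.image (fun i => u₁ ^ i) (Finset.range p) ⊆
        Finset.univ.filter (fun u : U => u ^ p = 1) := by
      intro u hu
      obtain ⟨i, -, rfl⟩ := Finset.mem_image.1 hu
      refine Finset.mem_filter.2 ⟨Finset.mem_univ _, ?_⟩
      rw [pow_right_comm, ← ho, pow_orderOf_eq_one, one_pow]
    have heq := Finset.eq_of_subset_of_card_le hsub (by
      refine (IsCyclic.card_pow_eq_one_le P.prime.pos).trans ?_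
      rw [Finset.card_image_of_injOn, Finset.card_range]
      intro i hi j hj e
      exact pow_injOn_Iio_orderOf (by simpa [ho] using hi) (by simpa [ho] using hj) e)
    obtain ⟨i, -, hi⟩ := Finset.mem_image.1 (heq.ge (Finset.mem_filter.2 ⟨Finset.mem_univ u₂,
      Subtype.ext hl₂p⟩))
    exact ⟨i, (congrArg Subtype.val hi).symm⟩
  -- so `y x⁻ⁱ` is semiregular and fixes a point
  have hne : y * (x ^ i)⁻¹ ≠ 1 := fun e1 => hyx ⟨(i : ℤ), by
    show x ^ (i : ℤ) = y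
    rw [zpow_natCast]
    exact (mul_inv_eq_one.1 e1).symm⟩
  have hci : Commute x (y * (x ^ i)⁻¹) := hc.mul_right ((Commute.refl x).pow_right i).inv_right
  have hs := commuting_semireg (h := h) loc hxs hxd hxt hne (by
    rw [show t * (y * (x ^ i)⁻¹) * t⁻¹ = (t * y * t⁻¹) * ((t * x * t⁻¹) ^ i)⁻¹ by rw [conj_pow]; group,
      hyt, hxt, inv_pow, inv_inv, _root_.mul_inv_rev, inv_inv]
    exact ((hc.pow_left i).symm.inv_left).eq) hci
  refine semireg_conj hs g⁻¹ a ?_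
  rw [show g⁻¹ * (y * (x ^ i)⁻¹) * g⁻¹⁻¹ = w₂ * (w₁ ^ i)⁻¹ by
    rw [show g⁻¹ * (y * (x ^ i)⁻¹) * g⁻¹⁻¹ = (g⁻¹ * y * g) * ((g⁻¹ * x * (g⁻¹)⁻¹) ^ i)⁻¹ by
        rw [conj_pow]; group,
      inv_inv, e₁, e₂, (cLW hl₁ hw₁).mul_pow, hi, ((cLW hl₁ hw₁).pow_pow i i).eq, _root_.mul_inv_rev,
      ((cLW (pow_mem hl₁ i) hw₂)).eq]
    group]
  exact hfixa (mul_mem hw₂ (inv_mem (pow_mem hw₁ i)))

/-- A good power `x` of `τ`: inverted elements commuting with it are in the torus. -/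
theorem Part.mem_torus_of_commute (P : Part fr ρ p e τ) (loc : Local fr ρ) {x : G}
    (hx : x ∈ Subgroup.zpowers τ) (hx1 : x ≠ 1) (hgood : x ^ p ≠ 1 ∨ 5 ≤ p) {y : G}
    (hyt : t * y * t⁻¹ = y⁻¹) (hc : Commute x y) : y ∈ fr.torusG ρ := by
  obtain ⟨hxs, hxd, hxt, hxe⟩ := P.tau_props (h := h) loc hx hx1
  have hxA := P.mem_torus hx
  have hA := torus_member (h := h) loc
  have inv_pow' : ∀ {u : G} (k : ℕ), t * u * t⁻¹ = u⁻¹ → t * u ^ k * t⁻¹ = (u ^ k)⁻¹ := fun k hu => by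
    rw [← conj_pow, hu, inv_pow]
  have inv_mul' : ∀ {u : G}, t * u * t⁻¹ = u⁻¹ → Commute x u → t * (x * u) * t⁻¹ = (x * u)⁻¹ :=
    fun {u} hu hcu => by
      rw [show t * (x * u) * t⁻¹ = (t * x * t⁻¹) * (t * u * t⁻¹) by group, hxt, hu, hcu.eq,
        _root_.mul_inv_rev]
  -- a common power puts `x u` in the torus
  have key : ∀ {u : G}, t * u * t⁻¹ = u⁻¹ → Commute x u → ∀ {k : ℕ}, (x * u) ^ k ≠ 1 →
      (x * u) ^ k ∈ fr.torusG ρ → x * u ∈ fr.torusG ρ := by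
    intro u hu hcu k hk hkA
    by_cases h1 : x * u = 1
    · rw [h1]; exact one_mem _
    have hs := commuting_semireg (h := h) loc hxs hxd hxt h1 (inv_mul' hu hcu)
      ((Commute.refl x).mul_right hcu)
    obtain ⟨M, ⟨hM, hMm⟩, -⟩ := loc.cover _ hs (inv_mul' hu hcu)
    rw [← member_eq (h := h) loc hM hA hk (pow_mem hMm k) hkA]
    exact hMm
  have descend : ∀ (k : ℕ) (u : G), u ^ (p ^ k) = 1 → t * u * t⁻¹ = u⁻¹ → Commute x u →
      u ∈ fr.torusG ρ := by
    intro k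
    induction k with
    | zero => intro u hu _ _; rw [pow_zero, pow_one] at hu; rw [hu]; exact one_mem _
    | succ k ih =>
      intro u hu hut hcu
      have hupA : u ^ p ∈ fr.torusG ρ :=
        ih (u ^ p) (by rw [← pow_mul, ← pow_succ']; exact hu) (inv_pow' p hut) (hcu.pow_right p)
      by_cases hu1 : u = 1
      · rw [hu1]; exact one_mem _
      have hus := commuting_semireg (h := h) loc hxs hxd hxt hu1 hut hcu
      by_cases hup : u ^ p = 1
      · rcases hgood with hxp | hp5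
        · have h1 : (x * u) ^ p = x ^ p := by rw [hcu.mul_pow, hup, mul_one]
          have h2 := key hut hcu (h1 ▸ hxp) (h1 ▸ pow_mem hxA p)
          simpa using mul_mem (inv_mem hxA) h2
        · -- an element of order `p` below `x`
          obtain ⟨i, -, hi⟩ := (Nat.dvd_prime_pow P.prime).1 (orderOf_dvd_of_pow_eq_one hxe)
          obtain ⟨j, rfl⟩ : ∃ j, i = j + 1 := by
            refine Nat.exists_eq_succ_of_ne_zero fun e0 => hx1 ?_
            rw [e0, pow_zero] at hi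
            exact orderOf_eq_one_iff.1 hi
          have hx'1 : x ^ (p ^ j) ≠ 1 := fun e1 => by
            have h1 := orderOf_dvd_of_pow_eq_one e1
            rw [hi, Nat.pow_dvd_pow_iff_le_right P.prime.one_lt] at h1
            omega
          obtain ⟨hs', hd', ht', -⟩ := P.tau_props (h := h) loc (pow_mem hx (p ^ j)) hx'1
          obtain ⟨m, rfl⟩ := P.not_rank_two (h := h) (hW := hW) loc hp5 hs' hd' ht'
            (by rw [← pow_mul, ← pow_succ, ← hi, pow_orderOf_eq_one]) hup hut (hcu.pow_left _)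
          exact zpow_mem (pow_mem hxA _) m
      · obtain ⟨M, ⟨hM, hMm⟩, -⟩ := loc.cover _ hus hut
        rw [← member_eq (h := h) loc hM hA hup (pow_mem hMm p) hupA]
        exact hMm
  by_cases hye : y ^ (p ^ e) = 1
  · exact descend e y hye hyt hc
  have hy1 : y ≠ 1 := fun e1 => hye (by rw [e1, one_pow])
  have hys := commuting_semireg (h := h) loc hxs hxd hxt hy1 hyt hc
  obtain ⟨M, ⟨hM, hMy⟩, -⟩ := loc.cover _ hys hyt
  have h1 : (x * y) ^ (p ^ e) = y ^ (p ^ e) := by rw [hc.mul_pow, hxe, one_mul]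
  have hxy1 : x * y ≠ 1 := fun e1 => hye (by rw [← h1, e1, one_pow])
  have hxys := commuting_semireg (h := h) loc hxs hxd hxt hxy1 (inv_mul' hyt hc)
    ((Commute.refl x).mul_right hc)
  obtain ⟨N, ⟨hN, hNm⟩, -⟩ := loc.cover _ hxys (inv_mul' hyt hc)
  have hNM := member_eq (h := h) loc hN hM hye (h1 ▸ pow_mem hNm _) (pow_mem hMy _)
  have hxM : x ∈ M := by
    have h2 : x * y ∈ M := hNM ▸ hNm
    have h3 := mul_mem h2 (inv_mem hMy)
    rwa [mul_inv_cancel_right] at h3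
  rw [member_eq (h := h) loc hA hM hx1 hxA hxM]
  exact hMy

/-- The point fixed by `t` is in the block. -/
theorem exists_fixed_t : ∃ c ∈ blockB a t Q, t • c = c := by
  obtain ⟨w, hw, hw1⟩ := exists_W h hW
  obtain ⟨c, hc, hu⟩ := fixed_unique h.setup (fun e => h.setup.not_mem (show t • a = a by
    rw [e, one_smul])) h.setup.mul_self
  refine ⟨c, (fixed_iff h hw hw1).1 (hu (w • c) ?_), hc⟩
  show t • w • c = w • c
  rw [smul_smul, W_t hw, mul_smul, hc]

/-- The centraliser of a good power of `τ` stabilises the block. -/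
theorem Part.centralizer_le (P : Part fr ρ p e τ) (loc : Local fr ρ) {x : G}
    (hx : x ∈ Subgroup.zpowers τ) (hx1 : x ≠ 1) (hgood : x ^ p ≠ 1 ∨ 5 ≤ p) {c : G}
    (hc : Commute x c) : c ∈ Nb a t Q := by
  obtain ⟨hxs, -, hxt, -⟩ := P.tau_props (h := h) loc hx hx1
  have hn : ∀ u ∈ Subgroup.centralizer ({x} : Set G), t * u * t⁻¹ ∈ Subgroup.centralizer ({x} : Set G) := by
    intro u hu
    have hu' : Commute u x := Subgroup.mem_centralizer_singleton_iff.1 hu
    have h1 : Commute (t * u * t⁻¹) x⁻¹ := by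
      rw [← hxt]
      exact hu'.map (MulAut.conj t)
    exact Subgroup.mem_centralizer_singleton_iff.2 (Commute.inv_right_iff.1 h1).eq
  obtain ⟨c₀, k, hc₀, htc₀, ⟨hk, hkt⟩, rfl⟩ := InvertedSet.exists_decomp
    (odd_centralizer (h := h) hxs) h.setup.mul_self hn
    (Subgroup.mem_centralizer_singleton_iff.2 hc.eq.symm)
  have hkA := P.mem_torus_of_commute (h := h) (hW := hW) loc hx hx1 hgood hkt
    (show Commute k x from Subgroup.mem_centralizer_singleton_iff.1 hk).symm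
  refine mul_mem ?_ (L0_le_Nb h hW (torusG_le fr hkA))
  obtain ⟨γ, hγB, hγ⟩ := exists_fixed_t (h := h) (hW := hW)
  have ht1 : t ≠ 1 := fun e => h.setup.not_mem (show t • a = a by rw [e, one_smul])
  have hcγ : c₀ • γ = γ := (fixed_unique h.setup ht1 h.setup.mul_self).unique
    (show t • c₀ • γ = c₀ • γ by rw [smul_smul, mul_inv_eq_iff_eq_mul.1 htc₀, mul_smul, hγ]) hγ
  have hxN : x ∈ Nb a t Q := L0_le_Nb h hW (P.mem_L0 hx)
  have hcx : c₀ • x • γ = x • γ := by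
    rw [smul_smul, Subgroup.mem_centralizer_singleton_iff.1 hc₀, mul_smul, hcγ]
  exact mem_Nb_of_two h fr hW (hxs γ).symm hγB (smul_mem_B hxN hγB) (by rw [hcγ]; exact hγB)
    (by rw [hcx]; exact smul_mem_B hxN hγB)

include fr

/-- The involutions of the stabiliser lie in `L₀`. -/
theorem mem_L0_of_involution {i : G} (hi : i ∈ Nb a t Q) (hi2 : i * i = 1) : i ∈ L0 a t Q := by
  obtain ⟨x, hx, v, hv, hvt, rfl⟩ := decomp h fr hW hi
  obtain ⟨x', hx', e⟩ := pow_decomp h hx hv hvt 2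
  rw [sq, hi2] at e
  have h1 := (decomp_unique h fr hx' (one_mem _) (pow_mem hv 2)
    ((show Commute t v from hvt).pow_right 2).eq (one_mem _) (by simp) (e.symm.trans (mul_one 1).symm)).2
  rw [sq] at h1
  rw [InvertedSet.eq_one_of_mul_self h.setup.odd_card hv h1, mul_one]
  exact hx

/-- A conjugate of `t` by an element outside the stabiliser that sends back a semiregular element. -/
theorem not_mem_L0 {g : G} (hg : g ∉ Nb a t Q) {x : G} (hx : x ∈ Nb a t Q) (hxs : Semireg Ω x)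
    (hgx : g * x * g⁻¹ ∈ Nb a t Q) : g * t * g⁻¹ ∉ L0 a t Q := by
  intro hi
  obtain ⟨γ, hγB, hγ⟩ := exists_fixed_t (h := h) (hW := hW)
  have ht1 : t ≠ 1 := fun e => h.setup.not_mem (show t • a = a by rw [e, one_smul])
  have hi1 : g * t * g⁻¹ ≠ 1 := fun e => ht1 (conj_eq_one_iff.1 e)
  have hi2 : g * t * g⁻¹ * (g * t * g⁻¹) = 1 := by
    rw [show g * t * g⁻¹ * (g * t * g⁻¹) = g * (t * t) * g⁻¹ by group, h.setup.mul_self]; group
  have hfixg : (g * t * g⁻¹) • g • γ = g • γ := by rw [mul_smul, mul_smul, inv_smul_smul, hγ]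
  rcases fix_or_elliptic h fr ⟨_, hi⟩ with ⟨c, hcB, hc⟩ | ⟨ρ', δ, hρ', he⟩
  · rw [(fixed_unique h.setup hi1 hi2).unique hc hfixg] at hcB
    refine hg (mem_Nb_of_two h fr hW (hxs γ).symm hγB (smul_mem_B hx hγB) hcB ?_)
    have h1 := smul_mem_B hgx hcB
    rwa [mul_smul, mul_smul, inv_smul_smul] at h1
  · exact torus_semireg' h fr hρ' ((mem_torusG fr).2 ⟨hi, δ, he⟩) hi1 _ hfixg

/-- Commuting with `x` and inverted by `t`. -/
theorem commute_of_inverting {i x : G} (hi2 : i * i = 1) (hix : i * x * i⁻¹ = x⁻¹)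
    (hxt : t * x * t⁻¹ = x⁻¹) : Commute x (t * i) ∧ t * (t * i) * t⁻¹ = (t * i)⁻¹ := by
  constructor
  · have h1 : t * i * x * (t * i)⁻¹ = x := by
      calc t * i * x * (t * i)⁻¹ = t * (i * x * i⁻¹) * t⁻¹ := by group
        _ = (t * x * t⁻¹)⁻¹ := by rw [hix]; group
        _ = x := by rw [hxt, inv_inv]
    exact (mul_inv_eq_iff_eq_mul.1 h1).symm
  · rw [_root_.mul_inv_rev, inv_eq_of_mul_eq_one_left hi2, ← mul_assoc, h.setup.mul_self, one_mul]

/-- A good power of `τ` is not fused into the torus from outside the stabiliser. -/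
theorem Part.no_fusion (P : Part fr ρ p e τ) (loc : Local fr ρ) {g x : G} (hg : g ∉ Nb a t Q)
    (hx : x ∈ Subgroup.zpowers τ) (hx1 : x ≠ 1) (hgood : x ^ p ≠ 1 ∨ 5 ≤ p)
    (hgx : g⁻¹ * x * g ∈ fr.torusG ρ) : False := by
  obtain ⟨hxs, -, hxt, -⟩ := P.tau_props (h := h) loc hx hx1
  have hxg : g * (g⁻¹ * x * g) * g⁻¹ = x := by group
  have hnot : g * t * g⁻¹ ∉ L0 a t Q := not_mem_L0 (h := h) (fr := fr) (hW := hW) hg
    (L0_le_Nb h hW (torusG_le fr hgx))
    (by simpa using semireg_conj hxs g⁻¹) (by rw [hxg]; exact L0_le_Nb h hW (P.mem_L0 hx))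
  obtain ⟨hc, hinv⟩ := commute_of_inverting (h := h) (fr := fr) (hW := hW) (i := g * t * g⁻¹) (x := x)
    (by rw [show g * t * g⁻¹ * (g * t * g⁻¹) = g * (t * t) * g⁻¹ by group, h.setup.mul_self]; group)
    (by
      calc g * t * g⁻¹ * x * (g * t * g⁻¹)⁻¹ = g * (t * (g⁻¹ * x * g) * t⁻¹) * g⁻¹ := by group
        _ = x⁻¹ := by rw [loc.torus_inverted _ hgx]; group) hxt
  have h1 := torusG_le fr (P.mem_torus_of_commute (h := h) (hW := hW) loc hx hx1 hgood hinv hc)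
  have h2 := mul_mem (t_mem_L0 (a := a) (t := t) (Q := Q)) h1
  rw [← mul_assoc, h.setup.mul_self, one_mul] at h2
  exact hnot h2

end Cfsg.Agent.Involutions.RankOne.U3.Idx
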